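import Groth.Agent.DepthLib.RegularLocal
import Groth.Agent.DepthLib.CMModule
import Mathlib

/-!
# Factors of a regular local ring which is a coproduct over a regular local ring

If a regular local ring `A`, finite over a regular local ring `R` with the same residue field, is the
coproduct over `R` of two subalgebras `B` and `C`, then both are free over `R` and regular.
-/

universe u v

set_option linter.unusedSectionVars false

set_option linter.style.haveILetI false

namespace Groth.Agent.RegCoprod

open IsLocalRing TensorProduct RingTheory.Sequence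
open scoped Pointwise

section Freeness

/-- A finite module on which generators of the maximal ideal form a regular sequence is free. -/
theorem free_of_isWeaklyRegular :
    ∀ {R : Type u} [CommRing R] [IsLocalRing R] [IsNoetherianRing R] (rs : List R),
      Ideal.ofList rs = maximalIdeal R →
      ∀ (M : Type v) [AddCommGroup M] [Module R M] [Module.Finite R M],
        IsWeaklyRegular M rs → Module.Free R M := by
  intro R _ _ _ rs
  induction h : rs.length generalizing R with
  | zero =>
    intro hm M _ _ _ _
    rw [List.length_eq_zero_iff.mp h, Ideal.ofList_nil] at hm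
    letI := (IsLocalRing.isField_iff_maximalIdeal_eq.mpr hm.symm).toField
    exact Module.Free.of_divisionRing R M
  | succ k ih =>
    intro hm M _ _ _ hreg
    obtain ⟨x, rs', rfl⟩ : ∃ x rs', rs = x :: rs' := by
      cases rs with
      | nil => simp at h
      | cons x rs' => exact ⟨x, rs', rfl⟩
    rw [isWeaklyRegular_cons_iff] at hreg
    have hx : x ∈ maximalIdeal R := hm ▸ Ideal.subset_span (by simp)
    haveI : Nontrivial (R ⧸ Ideal.span {x}) :=
      Ideal.Quotient.nontrivial_iff.mpr (Ideal.span_singleton_ne_top hx)
    haveI := IsLocalRing.of_surjective' (Ideal.Quotient.mk (Ideal.span {x})) Ideal.Quotient.mk_surjective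
    haveI : Module.Finite (R ⧸ Ideal.span {x}) (QuotSMulTop x M) :=
      Module.Finite.of_restrictScalars_finite R _ _
    have hfree : Module.Free (R ⧸ Ideal.span {x}) (QuotSMulTop x M) := by
      refine ih (rs'.map (Ideal.Quotient.mk (Ideal.span {x}))) (by simpa using h) ?_ _
        ((isWeaklyRegular_map_algebraMap_iff (R ⧸ Ideal.span {x}) (QuotSMulTop x M) rs').mpr hreg.2)
      have hk : RingHom.ker (Ideal.Quotient.mk (Ideal.span {x})) ≤ maximalIdeal R :=
        IsLocalRing.le_maximalIdeal (RingHom.ker_ne_top _)
      rw [← Ideal.map_ofList, ← IsLocalRing.eq_maximalIdeal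
        (Ideal.IsMaximal.map_of_surjective_of_ker_le Ideal.Quotient.mk_surjective hk), ← hm,
        Ideal.ofList_cons, Ideal.map_sup, Ideal.map_quotient_self, bot_sup_eq]
    haveI := Module.finitePresentation_of_finite R M
    exact (Module.free_quotSMulTop_iff_free R M
      (by rwa [IsLocalRing.jacobson_eq_maximalIdeal _ bot_ne_top]) hreg.1).mp hfree

end Freeness

/-- An integral injective extension preserves the Krull dimension. -/
theorem ringKrullDim_eq_of_integral {R : Type u} {A : Type v} [CommRing R] [CommRing A] [Algebra R A]
    [Algebra.IsIntegral R A] (hinj : Function.Injective (algebraMap R A)) :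
    ringKrullDim A = ringKrullDim R := by
  refine le_antisymm ?_ ?_
  · refine Order.krullDim_le_of_strictMono (PrimeSpectrum.comap (algebraMap R A)) fun P Q h => ?_
    obtain ⟨hle, x, hxQ, hxP⟩ := SetLike.lt_iff_le_and_exists.mp (show P.asIdeal < Q.asIdeal from h)
    exact Ideal.comap_lt_comap_of_integral_mem_sdiff hle ⟨hxQ, hxP⟩ (Algebra.IsIntegral.isIntegral x)
  · refine iSup_le fun l => ?_
    obtain ⟨P, -, hP, hPl⟩ := Ideal.exists_ideal_over_prime_of_isIntegral (RelSeries.head l).asIdeal
      (⊥ : Ideal A) (by
        rw [← RingHom.ker_eq_comap_bot, (RingHom.injective_iff_ker_eq_bot _).1 hinj]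
        exact bot_le)
    haveI := hP
    haveI : P.LiesOver (RelSeries.head l).asIdeal := ⟨hPl.symm⟩
    obtain ⟨L, hL, -, -⟩ := Ideal.exists_ltSeries_of_hasGoingUp l P
    rw [← hL]
    exact Order.LTSeries.length_le_krullDim L

/-- A regular local ring finite over a regular local ring is free. -/
theorem free_of_regular (R : Type u) [CommRing R] [IsRegularLocalRing R]
    (A : Type v) [CommRing A] [IsRegularLocalRing A] [Algebra R A] [Module.Finite R A]
    (hinj : Function.Injective (algebraMap R A)) : Module.Free R A := by
  classical
  haveI : Algebra.IsIntegral R A := Algebra.IsIntegral.of_finite R A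
  haveI : FaithfulSMul R A := (faithfulSMul_iff_algebraMap_injective R A).2 hinj
  have hfg : (maximalIdeal R).FG := IsNoetherian.noetherian _
  let G : Finset R := (Submodule.FG.finite_generators hfg).toFinset
  have hGs : Ideal.ofList G.toList = maximalIdeal R := by
    rw [Ideal.ofList, show {r | r ∈ G.toList} = (G : Set R) by ext r; simp]
    simp [G, Ideal.span, Submodule.span_generators]
  have hGc : G.toList.length = (maximalIdeal R).spanFinrank := by
    rw [Finset.length_toList, ← Submodule.FG.generators_ncard hfg,
      Set.ncard_eq_toFinset_card _ (Submodule.FG.finite_generators hfg)]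
  refine free_of_isWeaklyRegular G.toList hGs A
    ((isWeaklyRegular_map_algebraMap_iff A A G.toList).mp ?_)
  haveI := DepthLib.isCohenMacaulayLocalRing_of_isRegularLocalRing A
  refine DepthLib.isWeaklyRegular_of_supportDim_drop (R := A) _ A ?_ ?_ ?_
  · exact DepthLib.isCohenMacaulayModule_self
  · intro r hr
    obtain ⟨s, hs, rfl⟩ := List.mem_map.mp hr
    exact map_nonunit (algebraMap R A) s (hGs ▸ Ideal.subset_span hs)
  · rw [← Ideal.map_ofList, hGs, List.length_map, hGc]
    set I := (maximalIdeal R).map (algebraMap R A) with hI
    rw [smul_eq_mul, Ideal.mul_top, Module.supportDim_quotient_eq_ringKrullDim,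
      Module.supportDim_self_eq_ringKrullDim]
    have h0 : ringKrullDim (A ⧸ I) ≤ 0 := by
      haveI : Ring.KrullDimLE 0 (A ⧸ I) := by
        refine Ring.krullDimLE_zero_iff.mpr fun P hP => ?_
        haveI := hP
        haveI hmax : (P.comap (Ideal.Quotient.mk I)).IsMaximal := by
          refine Ideal.isMaximal_of_isIntegral_of_isMaximal_comap (R := R) _ ?_
          have hle : maximalIdeal R ≤ (P.comap (Ideal.Quotient.mk I)).comap (algebraMap R A) := by
            refine Ideal.map_le_iff_le_comap.mp fun a ha => ?_
            rw [Ideal.mem_comap, Ideal.Quotient.eq_zero_iff_mem.mpr ha]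
            exact P.zero_mem
          rw [← (maximalIdeal.isMaximal R).eq_of_le (Ideal.IsPrime.ne_top inferInstance) hle]
          exact maximalIdeal.isMaximal R
        rw [← Ideal.map_comap_of_surjective (Ideal.Quotient.mk I) Ideal.Quotient.mk_surjective P]
        exact ((P.comap _).map_eq_top_or_isMaximal_of_surjective _ Ideal.Quotient.mk_surjective hmax).resolve_left
          fun h => hP.ne_top (by rwa [Ideal.map_comap_of_surjective _ Ideal.Quotient.mk_surjective] at h)
      exact Ring.krullDimLE_iff.mp inferInstance
    calc ringKrullDim (A ⧸ I) + ((maximalIdeal R).spanFinrank : WithBot ℕ∞)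
        ≤ 0 + ((maximalIdeal R).spanFinrank : WithBot ℕ∞) := by gcongr
      _ = ringKrullDim R := by rw [zero_add, IsRegularLocalRing.spanFinrank_maximalIdeal]
      _ = ringKrullDim A := (ringKrullDim_eq_of_integral hinj).symm

/-- A linear retraction `A → R` carrying the maximal ideal into the maximal ideal. -/
theorem exists_retraction (R : Type u) [CommRing R] [IsLocalRing R]
    (A : Type v) [CommRing A] [IsLocalRing A] [Algebra R A] [Module.Free R A]
    [IsLocalHom (algebraMap R A)]
    (hres : Function.Surjective (IsLocalRing.residue A ∘ algebraMap R A)) :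
    ∃ lam : A →ₗ[R] R, lam 1 = 1 ∧ ∀ a ∈ maximalIdeal A, lam a ∈ maximalIdeal R := by
  let b := Module.Free.chooseBasis R A
  choose t ht using fun i => hres (residue A (b i))
  let l0 : A →ₗ[R] R := b.constr R t
  let ρ : A →ₗ[R] ResidueField A := (IsScalarTower.toAlgHom R A (ResidueField A)).toLinearMap
  have hl : ρ ∘ₗ (Algebra.linearMap R A ∘ₗ l0) = ρ :=
    b.ext fun i => by simpa [l0, ρ, IsScalarTower.toAlgHom] using ht i
  have hl' : ∀ a, residue A (algebraMap R A (l0 a)) = residue A a := fun a => LinearMap.congr_fun hl a
  have hu : IsUnit (l0 1) := by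
    refine isUnit_of_map_unit (algebraMap R A) _ ?_
    rw [← residue_ne_zero_iff_isUnit, hl', map_one]
    exact one_ne_zero
  refine ⟨(hu.unit⁻¹ : Rˣ).1 • l0, hu.val_inv_mul, fun a ha => ?_⟩
  refine Ideal.mul_mem_left _ _ ?_
  by_contra hn
  have h1 : IsUnit (algebraMap R A (l0 a)) := (notMem_maximalIdeal.mp hn).map _
  rw [← residue_ne_zero_iff_isUnit, hl'] at h1
  exact h1 ((residue_eq_zero_iff a).mpr ha)

section Sub

variable {R : Type u} [CommRing R] {A : Type v} [CommRing A] [IsLocalRing A] [Algebra R A]
variable (B : Subalgebra R A)

/-- The trace of the maximal ideal on a subalgebra. -/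
def mIdeal : Ideal B := (maximalIdeal A).comap B.val

theorem mem_mIdeal {b : B} : b ∈ mIdeal B ↔ (b : A) ∈ maximalIdeal A := Iff.rfl

variable [Module.Finite R A] [IsNoetherianRing R]

theorem isIntegral_sub : Algebra.IsIntegral B A :=
  haveI : Algebra.IsIntegral R A := Algebra.IsIntegral.of_finite R A
  Algebra.IsIntegral.tower_top R

theorem isLocalHom_val : IsLocalHom (B.val : B →+* A) := by
  haveI := isIntegral_sub B
  exact (algebraMap_isIntegral_iff.mpr ‹_› : (algebraMap B A).IsIntegral).isLocalHom
    Subtype.val_injective

theorem isLocalRing_sub : IsLocalRing B :=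
  haveI := isLocalHom_val B
  RingHom.domain_isLocalRing (B.val : B →+* A)

theorem finite_sub : Module.Finite R B :=
  haveI : IsNoetherian R A := isNoetherian_of_isNoetherianRing_of_finite R A
  Module.Finite.of_injective B.val.toLinearMap Subtype.val_injective

theorem isNoetherianRing_sub : IsNoetherianRing B :=
  haveI := finite_sub B
  isNoetherian_of_tower R inferInstance

theorem mIdeal_eq [IsLocalRing B] : mIdeal B = maximalIdeal B := by
  haveI := isLocalHom_val B
  refine Ideal.ext fun b => ?_
  rw [mem_mIdeal, mem_maximalIdeal, mem_maximalIdeal, mem_nonunits_iff, mem_nonunits_iff]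
  exact (isUnit_map_iff (B.val : B →+* A) b).not

end Sub

theorem length_cotangentSpace (R : Type u) [CommRing R] (S : Type v) [CommRing S] [IsLocalRing S]
    [IsNoetherianRing S] [Algebra R S]
    (hres : Function.Surjective (IsLocalRing.residue S ∘ algebraMap R S)) :
    Module.length R (CotangentSpace S) = ((maximalIdeal S).spanFinrank : ℕ∞) := by
  haveI : IsScalarTower R (ResidueField S) (CotangentSpace S) :=
    IsScalarTower.of_algebraMap_smul fun r x => by
      rw [IsScalarTower.algebraMap_apply R S (ResidueField S), algebraMap_smul, algebraMap_smul]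
  rw [Module.length_eq_of_surjective (R := ResidueField S)
    (by rw [IsScalarTower.algebraMap_eq R S (ResidueField S)]; exact hres),
    Module.length_eq_finrank, spanFinrank_maximalIdeal_eq_finrank_cotangentSpace]

end Groth.Agent.RegCoprod
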