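import Groth.Agent.RegCoprod.Basic

/-!
# The two-factor case

If `m : B ⊗[R] C → A` is bijective, with `A`, `R` regular local, `A` finite over `R` with the same
residue field, then `B` is free over `R` and a regular local ring.
-/

universe u v

set_option linter.unusedSectionVars false

set_option linter.style.haveILetI false

namespace Groth.Agent.RegCoprod

open IsLocalRing TensorProduct

variable {R : Type u} [CommRing R] [IsRegularLocalRing R] {A : Type v} [CommRing A]
  [IsRegularLocalRing A] [Algebra R A] [Module.Finite R A]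
  (B C : Subalgebra R A)

/-- The multiplication map. -/
noncomputable def mulMap : B ⊗[R] C →ₐ[R] A := Algebra.TensorProduct.productMap B.val C.val

theorem mulMap_tmul (b : B) (c : C) : mulMap B C (b ⊗ₜ c) = (b : A) * c :=
  Algebra.TensorProduct.productMap_apply_tmul _ _ b c

theorem main (hinj : Function.Injective (algebraMap R A))
    (hres : Function.Surjective (IsLocalRing.residue A ∘ algebraMap R A))
    (hbij : Function.Bijective (mulMap B C)) :
    Module.Free R B ∧ IsRegularLocalRing B := by
  classical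
  haveI : Algebra.IsIntegral R A := Algebra.IsIntegral.of_finite R A
  haveI : FaithfulSMul R A := (faithfulSMul_iff_algebraMap_injective R A).2 hinj
  haveI : Module.Free R A := free_of_regular R A hinj
  obtain ⟨lam, hlam1, hlam⟩ := exists_retraction R A hres
  have hlamR : ∀ t : R, lam (algebraMap R A t) = t := fun t => by
    rw [Algebra.algebraMap_eq_smul_one, map_smul, hlam1, smul_eq_mul, mul_one]
  let e : A ≃ₐ[R] B ⊗[R] C := (AlgEquiv.ofBijective (mulMap B C) hbij).symm
  have he : ∀ (b : B) (c : C), e ((b : A) * c) = b ⊗ₜ c := fun b c => by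
    rw [← mulMap_tmul B C b c]
    exact (AlgEquiv.ofBijective (mulMap B C) hbij).symm_apply_apply (b ⊗ₜ c)
  -- freeness
  let pB : A →ₗ[R] B :=
    TensorProduct.lift (LinearMap.mk₂ R (fun (b : B) (c : C) => lam (c : A) • b)
      (fun x y c => smul_add _ _ _) (fun r x c => smul_comm _ _ _)
      (fun b x y => by rw [AddMemClass.coe_add, map_add, add_smul])
      (fun r b c => by rw [SetLike.val_smul, map_smul, smul_assoc])) ∘ₗ e.toLinearEquiv.toLinearMap
  have hpB : ∀ b : B, pB (b : A) = b := fun b => by
    have h : e (b : A) = b ⊗ₜ (1 : C) := by rw [← he, OneMemClass.coe_one, mul_one]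
    simp [pB, h, hlam1]
  haveI := finite_sub B
  haveI : Module.Projective R B :=
    Module.Projective.of_split B.val.toLinearMap pB (LinearMap.ext hpB)
  refine ⟨Module.free_of_flat_of_isLocalRing, ?_⟩
  -- regularity
  haveI := isLocalRing_sub B
  haveI := isLocalRing_sub C
  haveI := isNoetherianRing_sub B
  haveI := isNoetherianRing_sub C
  have hdim : ∀ D : Subalgebra R A, ringKrullDim D = ringKrullDim R := fun D => by
    haveI := finite_sub D
    haveI : Algebra.IsIntegral R D := Algebra.IsIntegral.of_finite R D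
    exact ringKrullDim_eq_of_integral fun x y h => hinj (congrArg Subtype.val h)
  have hresD : ∀ (D : Subalgebra R A) (x : D), ∃ r : R, x - algebraMap R D r ∈ mIdeal D := fun D x => by
    obtain ⟨r, hr⟩ := hres (residue A (x : A))
    refine ⟨r, (residue_eq_zero_iff _).mp ?_⟩
    change residue A ((x : A) - algebraMap R A r) = 0
    rw [map_sub, sub_eq_zero]
    exact hr.symm
  have hresS : ∀ (D : Subalgebra R A) [IsLocalRing D],
      Function.Surjective (IsLocalRing.residue D ∘ algebraMap R D) := fun D _ y => by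
    obtain ⟨x, rfl⟩ := IsLocalRing.residue_surjective y
    obtain ⟨r, hr⟩ := hresD D x
    refine ⟨r, ?_⟩
    rw [mIdeal_eq, ← residue_eq_zero_iff, map_sub, sub_eq_zero] at hr
    exact hr.symm
  -- the functional
  let N : Submodule R (B × C) :=
    LinearMap.range ((Algebra.linearMap R B).prod (-Algebra.linearMap R C)) ⊔
      ((mIdeal B ^ 2).restrictScalars R).prod ((mIdeal C ^ 2).restrictScalars R)
  let bil : B →ₗ[R] C →ₗ[R] (B × C) ⧸ N :=
    LinearMap.mk₂ R (fun (b : B) (c : C) => N.mkQ
        (lam (c : A) • b, lam (b : A) • (c - algebraMap R C (lam (c : A)))))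
      (fun x y c => by
        rw [← map_add, Prod.mk_add_mk, AddMemClass.coe_add, map_add, smul_add, add_smul])
      (fun r x c => by
        rw [← map_smul, Prod.smul_mk, SetLike.val_smul, map_smul, smul_assoc, smul_comm])
      (fun b x y => by
        rw [← map_add, Prod.mk_add_mk, AddMemClass.coe_add, map_add, add_smul, ← smul_add, map_add]
        congr 2
        congr 1
        abel)
      (fun r b c => by
        rw [← map_smul, Prod.smul_mk, SetLike.val_smul, map_smul, smul_assoc, smul_eq_mul, map_mul,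
          ← Algebra.smul_def, ← smul_sub, smul_comm (lam (b : A)) r])
  let Φ : A →ₗ[R] (B × C) ⧸ N := TensorProduct.lift bil ∘ₗ e.toLinearEquiv.toLinearMap
  have hΦ : ∀ (b : B) (c : C), Φ ((b : A) * c) =
      N.mkQ (lam (c : A) • b, lam (b : A) • (c - algebraMap R C (lam (c : A)))) := fun b c => by
    simp [Φ, he, bil]
  have hΦB : ∀ b : B, Φ (b : A) = N.mkQ (b, 0) := fun b => by
    have h := hΦ b 1
    simp only [OneMemClass.coe_one, mul_one, hlam1, map_one, sub_self, smul_zero, one_smul] at h
    exact h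
  have hΦC : ∀ c : C, Φ (c : A) = N.mkQ (0, c) := fun c => by
    have h := hΦ 1 c
    simp only [OneMemClass.coe_one, one_mul, hlam1, one_smul] at h
    rw [h, Submodule.mkQ_apply, Submodule.mkQ_apply, Submodule.Quotient.eq]
    refine Submodule.mem_sup_left ⟨lam (c : A), ?_⟩
    simp [Algebra.smul_def]
  have hmt : ∀ (D : Subalgebra R A) (t : R), t ∈ maximalIdeal R → algebraMap R D t ∈ mIdeal D :=
    fun D t ht => map_nonunit (algebraMap R A) t ht
  have hsq : ∀ (D : Subalgebra R A) (t : R) (x : D), t ∈ maximalIdeal R → x ∈ mIdeal D →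
      t • x ∈ mIdeal D ^ 2 := fun D t x ht hx => by
    rw [Algebra.smul_def, pow_two]
    exact Ideal.mul_mem_mul (hmt D t ht) hx
  have hK1 : ∀ b ∈ mIdeal B ^ 2, Φ (b : A) = 0 := fun b hb => by
    rw [hΦB, Submodule.mkQ_apply, Submodule.Quotient.mk_eq_zero]
    exact Submodule.mem_sup_right ⟨hb, Submodule.zero_mem _⟩
  have hK2 : ∀ c ∈ mIdeal C ^ 2, Φ (c : A) = 0 := fun c hc => by
    rw [hΦC, Submodule.mkQ_apply, Submodule.Quotient.mk_eq_zero]
    exact Submodule.mem_sup_right ⟨Submodule.zero_mem _, hc⟩
  have hK3 : ∀ b ∈ mIdeal B, ∀ c ∈ mIdeal C, Φ ((b : A) * (c : A)) = 0 := fun b hb c hc => by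
    rw [hΦ, Submodule.mkQ_apply, Submodule.Quotient.mk_eq_zero]
    exact Submodule.mem_sup_right ⟨hsq B _ b (hlam _ hc) hb,
      hsq C _ _ (hlam _ hb) ((mIdeal C).sub_mem hc (hmt C _ (hlam _ hc)))⟩
  -- generators of the maximal ideal
  let G : Set A := {a | ∃ b ∈ mIdeal B, (b : A) = a} ∪ ({a | ∃ c ∈ mIdeal C, (c : A) = a} ∪
    {a | ∃ b ∈ mIdeal B, ∃ c ∈ mIdeal C, (b : A) * (c : A) = a})
  have hGm : Submodule.span R G ≤ (maximalIdeal A).restrictScalars R := by
    rw [Submodule.span_le]
    rintro a (⟨b, hb, rfl⟩ | ⟨c, hc, rfl⟩ | ⟨b, hb, c, hc, rfl⟩)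
    · exact hb
    · exact hc
    · exact Ideal.mul_mem_right _ _ hb
  have hA : ∀ a : A, ∃ t : R, a - algebraMap R A t ∈ Submodule.span R G := by
    intro a
    obtain ⟨z, rfl⟩ := hbij.2 a
    induction z using TensorProduct.induction_on with
    | zero => exact ⟨0, by simp⟩
    | tmul b c =>
      obtain ⟨r, hr⟩ := hresD B b
      obtain ⟨s, hs⟩ := hresD C c
      refine ⟨r * s, ?_⟩
      have hsplit : mulMap B C (b ⊗ₜ c) - algebraMap R A (r * s) =
          r • ((c - algebraMap R C s : C) : A) + s • ((b - algebraMap R B r : B) : A) +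
            ((b - algebraMap R B r : B) : A) * ((c - algebraMap R C s : C) : A) := by
        rw [mulMap_tmul, AddSubgroupClass.coe_sub, AddSubgroupClass.coe_sub, Subalgebra.coe_algebraMap,
          Subalgebra.coe_algebraMap, Algebra.smul_def, Algebra.smul_def, map_mul]
        ring
      rw [hsplit]
      exact add_mem (add_mem (Submodule.smul_mem _ _ (Submodule.subset_span (.inr (.inl ⟨_, hs, rfl⟩))))
        (Submodule.smul_mem _ _ (Submodule.subset_span (.inl ⟨_, hr, rfl⟩))))
        (Submodule.subset_span (.inr (.inr ⟨_, hr, _, hs, rfl⟩)))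
    | add x y hx hy =>
      obtain ⟨t, ht⟩ := hx
      obtain ⟨t', ht'⟩ := hy
      refine ⟨t + t', ?_⟩
      rw [map_add, map_add, add_sub_add_comm]
      exact add_mem ht ht'
  have hm : ∀ a ∈ maximalIdeal A, a ∈ Submodule.span R G := fun a ha => by
    obtain ⟨t, ht⟩ := hA a
    have h1 : algebraMap R A t ∈ maximalIdeal A := by
      have := (maximalIdeal A).sub_mem ha (hGm ht)
      rwa [sub_sub_cancel] at this
    have h2 : t ∈ maximalIdeal R := fun hu => h1 (hu.map _)
    rw [← sub_add_cancel a (algebraMap R A t)]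
    exact add_mem ht (Submodule.subset_span (.inl ⟨algebraMap R B t, hmt B t h2, rfl⟩))
  have hGG : ∀ x ∈ G, ∀ y ∈ G, Φ (x * y) = 0 := by
    rintro x (⟨b, hb, rfl⟩ | ⟨c, hc, rfl⟩ | ⟨b, hb, c, hc, rfl⟩) y
      (⟨b', hb', rfl⟩ | ⟨c', hc', rfl⟩ | ⟨b', hb', c', hc', rfl⟩)
    · exact hK1 (b * b') (pow_two (mIdeal B) ▸ Ideal.mul_mem_mul hb hb')
    · exact hK3 b hb c' hc'
    · rw [← mul_assoc]
      exact hK3 (b * b') ((mIdeal B).mul_mem_left _ hb') c' hc'
    · rw [mul_comm]
      exact hK3 b' hb' c hc
    · exact hK2 (c * c') (pow_two (mIdeal C) ▸ Ideal.mul_mem_mul hc hc')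
    · rw [mul_comm, mul_assoc]
      exact hK3 b' hb' (c' * c) ((mIdeal C).mul_mem_left _ hc)
    · rw [mul_comm, ← mul_assoc]
      exact hK3 (b' * b) ((mIdeal B).mul_mem_left _ hb) c hc
    · rw [mul_assoc]
      exact hK3 b hb (c * c') ((mIdeal C).mul_mem_left _ hc')
    · rw [mul_mul_mul_comm]
      exact hK3 (b * b') ((mIdeal B).mul_mem_left _ hb') (c * c') ((mIdeal C).mul_mem_left _ hc')
  have hΦm : ∀ a ∈ maximalIdeal A ^ 2, Φ a = 0 := fun a ha => by
    rw [pow_two] at ha
    refine Submodule.mul_induction_on ha (fun x hx y hy => ?_) fun x y hx hy => by rw [map_add, hx, hy, add_zero]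
    exact Submodule.span_induction₂ (p := fun u w _ _ => Φ (u * w) = 0) (fun u w hu hw => hGG u hu w hw)
      (fun w _ => by simp) (fun w _ => by simp)
      (fun u u' w _ _ _ h h' => by simp [add_mul, map_add, h, h'])
      (fun u w w' _ _ _ h h' => by simp [mul_add, map_add, h, h'])
      (fun r u w _ _ h => by rw [smul_mul_assoc, map_smul, h, smul_zero])
      (fun r u w _ _ h => by rw [mul_smul_comm, map_smul, h, smul_zero]) (hm x hx) (hm y hy)
  -- lengths
  have hmapR : ∀ (D : Subalgebra R A) [IsLocalRing D],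
      maximalIdeal R ≤ (maximalIdeal D).comap (Algebra.ofId R D) := fun D _ t ht => by
    rw [← mIdeal_eq]; exact hmt D t ht
  have hmapA : ∀ (D : Subalgebra R A) [IsLocalRing D],
      maximalIdeal D ≤ (maximalIdeal A).comap D.val := fun D _ x hx => by
    rw [← mIdeal_eq] at hx; exact hx
  let uB : CotangentSpace R →ₗ[R] CotangentSpace B :=
    Ideal.mapCotangent _ _ (Algebra.ofId R B) (hmapR B)
  let uC : CotangentSpace R →ₗ[R] CotangentSpace C :=
    Ideal.mapCotangent _ _ (Algebra.ofId R C) (hmapR C)
  let U := uB.prod (-uC)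
  let W : CotangentSpace B × CotangentSpace C →ₗ[R] CotangentSpace A :=
    (Ideal.mapCotangent _ _ B.val (hmapA B)).coprod (Ideal.mapCotangent _ _ C.val (hmapA C))
  have hker : LinearMap.ker W ≤ LinearMap.range U := by
    rintro ⟨y, z⟩ hyz
    obtain ⟨⟨b, hb⟩, rfl⟩ := Ideal.toCotangent_surjective _ y
    obtain ⟨⟨c, hc⟩, rfl⟩ := Ideal.toCotangent_surjective _ z
    have hyz' : (b : A) + c ∈ maximalIdeal A ^ 2 := by
      simp only [W, LinearMap.mem_ker, LinearMap.coprod_apply, Ideal.mapCotangent_toCotangent,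
        ← map_add, Ideal.toCotangent_eq_zero] at hyz
      exact hyz
    have h0 := hΦm _ hyz'
    rw [map_add, hΦB, hΦC, ← map_add, Submodule.mkQ_apply, Submodule.Quotient.mk_eq_zero,
      Prod.mk_add_mk, add_zero, zero_add] at h0
    obtain ⟨-, ⟨t, rfl⟩, q, hq, htq⟩ := Submodule.mem_sup.mp h0
    obtain ⟨hq1, hq2⟩ : q.1 ∈ mIdeal B ^ 2 ∧ q.2 ∈ mIdeal C ^ 2 := hq
    have ht1 : algebraMap R B t + q.1 = b := congrArg Prod.fst htq
    have ht2 : -algebraMap R C t + q.2 = c := congrArg Prod.snd htq
    have htm : t ∈ maximalIdeal R := by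
      intro hu
      have : algebraMap R B t ∈ maximalIdeal B := by
        rw [eq_sub_of_add_eq ht1]
        exact (maximalIdeal B).sub_mem hb (mIdeal_eq B ▸ Ideal.pow_le_self two_ne_zero hq1)
      exact this (hu.map _)
    refine ⟨Ideal.toCotangent _ ⟨t, htm⟩, Prod.ext ?_ ?_⟩
    · show uB _ = _
      simp only [uB, Ideal.mapCotangent_toCotangent]
      rw [Ideal.toCotangent_eq]
      have : algebraMap R B t - b = -q.1 := by rw [← ht1]; abel
      change algebraMap R B t - b ∈ _
      rw [this, ← mIdeal_eq]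
      exact neg_mem hq1
    · change (-uC) _ = _
      simp only [LinearMap.neg_apply, uC, Ideal.mapCotangent_toCotangent, ← map_neg]
      rw [Ideal.toCotangent_eq]
      have : -algebraMap R C t - c = -q.2 := by rw [← ht2]; abel
      change -algebraMap R C t - c ∈ _
      rw [this, ← mIdeal_eq]
      exact neg_mem hq2
  have hlen : Module.length R (CotangentSpace B × CotangentSpace C) ≤
      Module.length R (CotangentSpace R) + Module.length R (CotangentSpace A) := by
    rw [Module.length_eq_add_of_exact (LinearMap.ker W).subtype W.rangeRestrict Subtype.val_injective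
      W.surjective_rangeRestrict (LinearMap.exact_iff.mpr (by simp))]
    exact add_le_add
      ((Module.length_le_of_injective (Submodule.inclusion hker) (Submodule.inclusion_injective hker)).trans
        (Module.length_le_of_surjective U.rangeRestrict U.surjective_rangeRestrict))
      (Module.length_le_of_injective (LinearMap.range W).subtype Subtype.val_injective)
  rw [Module.length_prod, length_cotangentSpace R B (hresS B), length_cotangentSpace R C (hresS C),
    length_cotangentSpace R A hres, length_cotangentSpace R R IsLocalRing.residue_surjective,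
    ← Nat.cast_add, ← Nat.cast_add, Nat.cast_le] at hlen
  refine IsRegularLocalRing.of_spanFinrank_maximalIdeal_le B ?_
  have hC := ringKrullDim_le_spanFinrank_maximalIdeal C
  have hAd : ((maximalIdeal A).spanFinrank : WithBot ℕ∞) = (maximalIdeal R).spanFinrank := by
    rw [IsRegularLocalRing.spanFinrank_maximalIdeal, IsRegularLocalRing.spanFinrank_maximalIdeal,
      ringKrullDim_eq_of_integral hinj]
  rw [hdim, ← IsRegularLocalRing.spanFinrank_maximalIdeal (R := R)] at hC ⊢
  have hC' : (maximalIdeal R).spanFinrank ≤ (maximalIdeal C).spanFinrank := by exact_mod_cast hC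
  have hAd' : (maximalIdeal A).spanFinrank = (maximalIdeal R).spanFinrank := by exact_mod_cast hAd
  exact_mod_cast show (maximalIdeal B).spanFinrank ≤ (maximalIdeal R).spanFinrank by omega

end Groth.Agent.RegCoprod
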